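import Cfsg.Agent.Helper61.Sr.P2

/-!
# S3572 piece (NP2) for helper61 (#12003)
-/

set_option autoImplicit false
set_option linter.unusedSectionVars false
set_option linter.unusedVariables false

namespace Cfsg.Agent.Helper66.Sr

open Finset DihedralGroup Cfsg.Agent.Helper61.Dih Cfsg.Agent.Helper61.Sr

variable {n : ℕ} [NeZero n] (S : SRing (DihedralGroup n))

/-- the `2`-torsion of `ZMod n`, `n` even -/
theorem two_tor_aux (h2 : 2 ∣ n) (u : ZMod n) (hu : 2 • u = 0) :
    u = 0 ∨ u = ((n / 2 : ℕ) : ZMod n) := by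
  have hn0 : 0 < n := Nat.pos_of_ne_zero (NeZero.ne n)
  have hval : u = ((u.val : ℕ) : ZMod n) := (ZMod.natCast_zmod_val u).symm
  have hlt : u.val < n := ZMod.val_lt u
  have h0 : ((2 * u.val : ℕ) : ZMod n) = 0 := by
    rw [Nat.cast_mul, ZMod.natCast_zmod_val, Nat.cast_ofNat, ← hu, nsmul_eq_mul, Nat.cast_ofNat]
  rw [ZMod.natCast_eq_zero_iff] at h0
  obtain ⟨c, hc⟩ := h0
  obtain ⟨d, hd⟩ := h2
  have hc2 : c < 2 := by
    by_contra hge
    have : n * 2 ≤ n * c := Nat.mul_le_mul_left n (by omega)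
    omega
  interval_cases c
  · left
    have : u.val = 0 := by omega
    rw [hval, this, Nat.cast_zero]
  · right
    have : u.val = n / 2 := by omega
    rw [hval, this]

theorem two_nsmul_half_aux (h2 : 2 ∣ n) : 2 • ((n / 2 : ℕ) : ZMod n) = 0 := by
  rw [nsmul_eq_mul, Nat.cast_ofNat]
  have : (2 : ZMod n) * ((n / 2 : ℕ) : ZMod n) = ((2 * (n / 2) : ℕ) : ZMod n) := by
    push_cast; ring
  rw [this, Nat.mul_div_cancel' h2, ZMod.natCast_self]

/-- (NP2) -/
theorem NP2 (hn : 3 ≤ n) (hS : S.IsPrim) (K : AddSubgroup (ZMod n)) (hK : K ≠ ⊤) (a : ℕ)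
    (hKa : Nat.card K = 2 ^ a)
    (T : Finset (DihedralGroup n)) (hT : S.IsSet T) (hne : T.Nonempty)
    (h1 : (1 : DihedralGroup n) ∉ T) (hAK : ∀ i ∈ rotPart T, i ∈ K) : False := by
  obtain ⟨i0, hi0⟩ := F1' S (by omega) hS T hT hne h1
  have hi0' : i0 ∈ rotPart T := mem_rotPart.mpr hi0
  rcases Nat.eq_zero_or_pos a with ha | ha
  · -- `K = ⊥`
    subst ha
    rw [pow_zero, AddSubgroup.card_eq_one] at hKa
    have := hAK i0 hi0'
    rw [hKa, AddSubgroup.mem_bot] at this
    rw [this] at hi0
    exact h1 (by rw [DihedralGroup.one_def]; exact hi0)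
  · -- `2 ∣ n`
    have h2n : 2 ∣ n := by
      have h1 : Nat.card K ∣ Nat.card (ZMod n) := AddSubgroup.card_addSubgroup_dvd_card K
      rw [Nat.card_zmod, hKa] at h1
      exact dvd_trans (dvd_pow_self 2 ha.ne') h1
    have : Fact (Nat.Prime 2) := ⟨Nat.prime_two⟩
    obtain ⟨R, hR, h1R, hRrot⟩ := RAT S hn hS T hT h1
    set h : ZMod n := ((n / 2 : ℕ) : ZMod n) with hh
    have hh2 : 2 • h = 0 := two_nsmul_half_aux h2n
    have hneR : R.Nonempty := by
      refine ⟨r i0, ?_⟩
      rw [← mem_rotPart, hRrot]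
      exact ⟨1, i0, hi0', by rw [Units.val_one, one_mul]⟩
    have hAKR : ∀ i ∈ rotPart R, i ∈ K := by
      intro x hx
      obtain ⟨u, i, hi, rfl⟩ := (hRrot x).mp hx
      have e : (u : ZMod n) * i = ((u : ZMod n).val) • i := by
        rw [nsmul_eq_mul, ZMod.natCast_zmod_val]
      rw [e]
      exact K.nsmul_mem (hAK i hi) _
    have hrat : Rational (rotPart R) := by
      intro v x hx
      obtain ⟨u, i, hi, rfl⟩ := (hRrot x).mp hx
      rw [hRrot]
      exact ⟨v * u, i, hi, by rw [Units.val_mul, mul_assoc]⟩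
    have hpow : ∀ x ∈ rotPart R, (2 ^ a) • x = 0 := by
      intro x hx
      have hxK := hAKR x hx
      have := card_nsmul_eq_zero' (G := K) (x := ⟨x, hxK⟩)
      rw [hKa] at this
      have h3 := congrArg (fun y : K => (y : ZMod n)) this
      simpa using h3
    have hstep : ∀ x ∈ rotPart R, 2 • x ≠ 0 → x + h ∈ rotPart R := by
      intro x hx hx2
      obtain ⟨u, hu⟩ := unit_add_half h2n x a (hpow x hx) hx2
      rw [← hu]
      exact hrat u x hx
    have hper : PerOff 2 (rotPart R) := by
      intro x u hu hx2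
      rcases two_tor_aux h2n u hu with rfl | rfl
      · rw [add_zero]
      · constructor
        · intro hx
          exact hstep x hx hx2
        · intro hx
          have hx2' : 2 • (x + h) ≠ 0 := by
            rw [nsmul_add, hh2, add_zero]
            exact hx2
          have := hstep (x + h) hx hx2'
          have e : x + h + h = x := by
            rw [add_assoc, ← two_nsmul, hh2, add_zero]
          rwa [e] at this
    have hdich : (∀ u : ZMod n, 2 • u = 0 → u ≠ 0 → u ∉ rotPart R) ∨
        (∀ u : ZMod n, 2 • u = 0 → u ≠ 0 → u ∈ rotPart R) := by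
      by_cases hmem : h ∈ rotPart R
      · right
        intro u hu hu0
        rcases two_tor_aux h2n u hu with rfl | rfl
        · exact absurd rfl hu0
        · exact hmem
      · left
        intro u hu hu0
        rcases two_tor_aux h2n u hu with rfl | rfl
        · exact absurd rfl hu0
        · exact hmem
    exact NPfin S hn hS 2 h2n K hK R hR hneR h1R hAKR hper hdich

end Cfsg.Agent.Helper66.Sr
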