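import Cfsg.Agent.Helper61.Sr.P2

/-!
# S3572 piece (RC1a_of) for helper61 (#12003)
-/

set_option autoImplicit false
set_option linter.unusedSectionVars false
set_option linter.unusedVariables false

namespace Cfsg.Agent.Helper66.Sr

open Finset DihedralGroup Cfsg.Agent.Helper61.Dih Cfsg.Agent.Helper61.Sr

variable {n : ℕ} [NeZero n] (S : SRing (DihedralGroup n))

/-- (RC1a) -/
theorem RC1a_of (hn : 3 ≤ n) (hS : S.IsPrim) (p : ℕ) [Fact p.Prime] (hp2 : p ≠ 2) (hpn : p ∣ n)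
    (hNP : ∀ K : AddSubgroup (ZMod n), K ≠ ⊤ → ∀ T : Finset (DihedralGroup n), S.IsSet T →
      T.Nonempty → (1 : DihedralGroup n) ∉ T → (∀ i ∈ rotPart T, i ∈ K) → False)
    (T : Finset (DihedralGroup n)) (hT : S.IsSet T) : PerOff p (rotPart T) := by
  have hp : p.Prime := Fact.out
  apply perOff_of_empty S hn hS p hp2 hpn T hT
  intro T' hT' h1' hrot
  by_contra hne
  have hne' : T'.Nonempty := Finset.nonempty_iff_ne_empty.mpr hne
  set K : AddSubgroup (ZMod n) := (nsmulAddMonoidHom p : ZMod n →+ ZMod n).range with hKdef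
  have hK : K ≠ ⊤ := by
    intro htop
    have h1K : (1 : ZMod n) ∈ K := by rw [htop]; exact AddSubgroup.mem_top _
    obtain ⟨x, hx⟩ := h1K
    have hx' : (p : ZMod n) * x = 1 := by
      rw [← nsmul_eq_mul]
      exact hx
    have hu : IsUnit (p : ZMod n) := IsUnit.of_mul_eq_one _ hx'
    rw [ZMod.isUnit_iff_coprime] at hu
    have h2 : p ∣ Nat.gcd p n := Nat.dvd_gcd dvd_rfl hpn
    rw [hu] at h2
    exact hp.one_lt.ne' (Nat.dvd_one.mp h2)
  refine hNP K hK T' hT' hne' h1' ?_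
  intro i hi
  obtain ⟨x, -, hx⟩ := hrot i hi
  exact ⟨x, hx⟩

end Cfsg.Agent.Helper66.Sr
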